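import Cfsg.Agent.Lib.ToddCox.Glue
set_option autoImplicit false
set_option maxRecDepth 100000
namespace Cfsg.Agent.Lib.ToddCox.SP44C2
def E_0 : ℕ := 0xf1400003c00003c500000f0000111000003c00003c40000110000060c0000200000203000006000006fc000030000033f000006000009fc000020000023f00000900000efc000034000037f00000e0000010c0000040000043000001000002fc000004000007f000002000005100000140000144000005000004fc00000c00000ff000004000007fc000014000017f00000700000bfc000020000023f00000b000010fc000034000037f00001000001114000034000034500001100001108000044000044200001100001104000044000044100001100001100000044000044000001100000f0800003c00003c200000f00000f0400003c00003c100000f00000f0000003c00003c000000f00000d08000034000034200000d00000d04000034000034100000d00000d00000034000034000000d00000a14000028000028500000a00000a08000028000028200000a00000a04000028000028100000a00000a00000028000028000000a0000080800002000002020000080000080400002000002010000080000080000002000002000000080000071000001400001440000070000060800001800001820000060000060400001800001810000060000060000001800001800000060000050800001400001420000050000050400001400001410000050000050000001400001400000050000030800000c00000c20000030000030400000c00000c10000030000030000000c00000c00000030000010800000400000420000010000010400000400000410000010000010000000400000400000010000001000000000000040000000000000c000000000000300000000000008000000000000200000000000004000000000000100000000000000000000000000000000000000d0c000044000044300000d00000b10000040000040400000b00000a0c00003c00003c300000a0000091000003800003840000090000081000003400003440000080000080c00003000003030000080000071400002c00002c50000070000061000002800002840000060000060c00002400002430000060000051400002000002050000050000040c00001c00001c30000040000031400001800001850000030000030c00001400001430000030000021000001000001040000020000011000000c00000c40000010000010c0000080000083000001000000140000040000045000000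
end Cfsg.Agent.Lib.ToddCox.SP44C2
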