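import Cfsg.Agent.Lib.ToddCox.SP44C2.Data
set_option autoImplicit false
set_option maxRecDepth 100000
namespace Cfsg.Agent.Lib.ToddCox.SP44C2
theorem wordsGood : allBelow (wordsOK W (relR Rb inv) inv sp) nW 5 = true := by decide +kernel
theorem d0 : allBits (fun k => bif Nat.blt k 17 then chkDef Eo inv k else true) 13 0 = true := by decide +kernel
def L0 : List ℕ := [nat_lit 0x2000002a000008400000c00001c000028000007400001000001c000027000007400000e00001c000026000007400000c000018000025000006400000a00001800002400000640000080000180000230000064000006000012000005000001000000000002b000000800001400001600001300000500000480000840000130000028000048000080000013000002000004800007c000013000001800003800007800000f000001000003800007400000f000000800003800007000000f000000000003000000c000002000002800002400001200000a00001b000002c00000400000a00001a000002c00000200000a000019000002c00000000000800001b000002400001000000800001a000002400000e000008000019000002400000c000004000018000001400000a00000400001700000140000080000040000160000014000006000000000013800000400000400000000001280000040000020000000000118000004000001fffffffffffffffffffffffffffffff]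
theorem s0 : chkChunks Eo inv W isH 32 L0 17 = true := by decide +kernel
theorem c0 : Covered Eo inv W isH 17 49 := covered_of_chunks 32 L0 17 49 rfl s0
theorem s1 : chkStream Eo inv W isH 16 49 0x7e00001000001980000fe00001c0000298000048000014000009000038800003c0000f800001300000e800004c00004000001800003e000004c00003a00000900003d800005800002200001100003c800005c00001e00001b00003b800006000001a00001a000008000002800000800000000001400000a8000002000075000002800002400001e000019000010800019c000024000072000001000004400000e00006f00000200000340000d800004500000800000340000da00000800000780000540000d600000e000007000007c0000d2000018000006800007800002800000c000003000000800000000002a000014000000400000a00000900000780000640000cc000020000006000008000003000000e000004000001000000000002900001580000a4000002000005000004800003c00003200000b00001000001600000420000080000100000158000042000007 = true := by decide +kernel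
theorem c1 : Covered Eo inv W isH 49 65 := covered_of_stream 16 49 _ s1
theorem l0 : chkPoints Eo cF (2 * nEv) N ys 10 0 0x33000001c0000fc000008000010800001c0000ca00000900003180000240000c200000900004080000200000fe00000900000e80000180000be00000800002e80000200000b6000008000033800002400003200000500001000000240000b200000700002b800001c0000aa000007000029800001800002600000400000e00000200000a2000006000027800001800009a000006000007800000c00003000000700003e8000010000096000005000024800001400008e000005000005800000800002400000600003e0000014000086000004000020800001000007e00000400000700000140000e2000003000004800000800007a00000300001d800000c000072000003000005000001000000a000001000004000000c00006e00000200001a8000008000066000002000000800000000000800000200003a8000004000062000001000017800000400005a0000010000000000004000054000000000014000000000004c0000000000120000000000044000000 = true := by decide +kernel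
theorem k0 : LinksOK Eo cF (2 * nEv) N ys 0 10 := linksOK_of_points 10 0 _ l0
end Cfsg.Agent.Lib.ToddCox.SP44C2
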